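import Mathlib
import Cfsg.Agent.Lib.Helper11.LeechCo2Data

set_option autoImplicit false
set_option maxRecDepth 200000

namespace Cfsg.Agent.Lib.Helper11.LeechCo2Data

open Cfsg Cfsg.Agent.Lib.Helper3.Golay Cfsg.Agent.Lib.Helper3.Golay2
open Cfsg.Agent.Lib.Helper3.Leech Cfsg.Agent.Lib.Helper3.Leech2 Cfsg.Agent.Lib.Helper3.Leech4
open Cfsg.Agent.Lib.Helper3.GolayM24 Cfsg.Agent.Lib.Helper3.M24Perm
open Cfsg.Agent.Lib.Helper11.LeechGF Cfsg.Agent.Lib.Helper11.Co0Mono
open Cfsg.Agent.Lib.Helper11.LeechIP Cfsg.Agent.Lib.Helper11.LeechXi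
open Cfsg.Agent.Lib.Helper11.LeechCo1 Cfsg.Agent.Lib.Helper11.LeechOrb
open Cfsg.Agent.Lib.Helper11.LeechMcLData

theorem Cs_split : Cs = C0 ++ (C1 ++ (C2 ++ (C3 ++ (C4 ++ (C5 ++ (C6 ++ (C7 ++ (C8 ++ (C9 ++ (C10 ++ (C11 ++ (C12 ++ (C13 ++ (C14 ++ (C15 ++ (C16 ++ (C17 ++ (C18 ++ (C19 ++ (C20 ++ (C21 ++ (C22 ++ (C23 ++ (C24)))))))))))))))))))))))) := by decide +kernel

theorem C0_len : C0.length = 1920 := by decide +kernel

theorem C1_len : C1.length = 1920 := by decide +kernel

theorem C2_len : C2.length = 1920 := by decide +kernel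

theorem C3_len : C3.length = 1920 := by decide +kernel

theorem C4_len : C4.length = 1920 := by decide +kernel

theorem C5_len : C5.length = 1920 := by decide +kernel

theorem C6_len : C6.length = 1920 := by decide +kernel

theorem C7_len : C7.length = 1920 := by decide +kernel

theorem C8_len : C8.length = 1920 := by decide +kernel

theorem C9_len : C9.length = 1920 := by decide +kernel

theorem C10_len : C10.length = 1920 := by decide +kernel

theorem C11_len : C11.length = 1920 := by decide +kernel

theorem C12_len : C12.length = 1920 := by decide +kernel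

theorem C13_len : C13.length = 1920 := by decide +kernel

theorem C14_len : C14.length = 1920 := by decide +kernel

theorem C15_len : C15.length = 1920 := by decide +kernel

theorem C16_len : C16.length = 1920 := by decide +kernel

theorem C17_len : C17.length = 1920 := by decide +kernel

theorem C18_len : C18.length = 1920 := by decide +kernel

theorem C19_len : C19.length = 1920 := by decide +kernel

theorem C20_len : C20.length = 1920 := by decide +kernel

theorem C21_len : C21.length = 1920 := by decide +kernel

theorem C22_len : C22.length = 1920 := by decide +kernel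

theorem C23_len : C23.length = 1920 := by decide +kernel

theorem rootC_ok : rootOK (acc XXC) (acc CCC) 47104 [Lws, Lr16, Lr8, Lr0, Lrm8, Lrm16] = true := by
  decide +kernel

theorem Cs_incr : incr Cs = true := by decide +kernel

theorem Cs_bound : Cs.all (fun L => decide (L < 1329227995784915872903807060280344576)) = true := by
  decide +kernel

end Cfsg.Agent.Lib.Helper11.LeechCo2Data
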